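import Cfsg.Statements.S1082
import Cfsg.Agent.Lib.Classical.ChevOrth

set_option autoImplicit false
open Cfsg

namespace Cfsg.Agent.S1082

open CA CA.Orth CA.ChevO QuadraticMap

/-- the certificate for type `D₄` -/
def cert : Cert 8 where
  qd _ := 0
  bs i j := if i.1 + 4 = j.1 ∨ j.1 + 4 = i.1 then 1 else 0
  u r := [4, 4, 4, 4, 4, 4, 5, 5, 5, 5, 6, 6, 2, 2, 1, 1, 1, 1, 0, 0, 0, 0, 0, 0].getD r 0
  w r := [5, 6, 3, 7, 2, 1, 6, 3, 7, 2, 3, 7, 3, 7, 6, 3, 7, 2, 5, 6, 3, 7, 2, 1].getD r 0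
  σ r := [-1, -1, -1, -1, 1, -1, 1, 1, 1, -1, -1, -1, 1, 1, 1, -1, -1, -1, 1, -1, 1, 1, 1, 1].getD r 0
  h i := [[(0, 4, 1), (1, 5, -1)], [(1, 5, 1), (2, 6, -1)], [(2, 6, 1), (3, 7, -1)],
    [(2, 6, 1), (7, 3, -1)]].getD i []
  ψ i := [[(some (0, 4), 1)], [(some (0, 4), 1), (some (1, 5), 1)], [(none, 1), (some (3, 7), -1)],
    [(none, 1)]].getD i []

theorem cert_valid : cert.Valid Cfsg.Lie.chevD4 0 4 where
  root := by decide +kernel
  inter₁ := by decide +kernel
  inter₂ := by decide +kernel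
  dual := by decide +kernel
  adj₁ := by decide +kernel
  adj₂ := by decide +kernel
  qe := by decide +kernel
  qf := by decide +kernel
  be := by decide +kernel
  bf := by decide +kernel
  gen := by decide +kernel

/-- numbering of the coordinates -/
def idx : Fin 8 ≃ Fin 4 ⊕ Fin 4 where
  toFun := ![.inl 0, .inl 1, .inl 2, .inl 3, .inr 0, .inr 1, .inr 2, .inr 3]
  invFun := Sum.elim ![0, 1, 2, 3] ![4, 5, 6, 7]
  left_inv := by decide
  right_inv := by decide

/-- D₄(F) ≅ PΩ₈⁺(F), the commutator subgroup of the orthogonal group of `Σ xᵢ yᵢ` modulo its centre. -/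
theorem result {F : Type*} [Field F] : Nonempty (↥(Cfsg.Lie.chevD4.group F) ≃* Cfsg.POmega F (Cfsg.quadFormPlus 4 F)) := by
  let bm := ((Pi.basisFun F _).reindex idx.symm).map (plusEquiv F 4)
  have hbm : ∀ i, bm i = (fun k => if .inl k = idx i then 1 else 0,
      fun k => if .inr k = idx i then 1 else 0, PUnit.unit) :=
    fun i => by
      have : bm i = plusEquiv F 4 (Pi.single (idx i) 1) := by simp [bm]
      rw [this]
      exact Prod.ext (funext fun k => Pi.single_apply ..) (Prod.ext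
        (funext fun k => Pi.single_apply ..) rfl)
  exact ⟨(nonempty_equiv (Q := Qm 4 (q0 F)) (bm := bm) _
    (fun i => by
      rw [hbm]; fin_cases i <;> simp [Qm_apply, q0_apply, idx, cert])
    (fun i j => by
      rw [hbm, hbm, polar_Qm]
      fin_cases i <;> fin_cases j <;> simp [polar, q0_apply, idx, cert])
    cert_valid nd_q0.ns.Qm (by norm_num)).some.trans
    (isoPE _ (plusEquiv F 4) Qm_plusEquiv ((hyp2_Qm (i := 0) (j := 1) (by decide)).commutator_eq_E
      nd_q0.Qm (by rw [finrank_Qm]; omega))).symm⟩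

end Cfsg.Agent.S1082
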