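import Cfsg.Statements.S5472
import Cfsg.Agent.Lib.Fi.Out22
import Cfsg.Agent.Lib.Fi.AutW

set_option autoImplicit false
open Cfsg

namespace Cfsg.Agent.S5472

open Subgroup CA CA.Fi CA.Fs

/-- Let G be a finite group with trivial centre generated by a conjugation-invariant set D of 3-transpositions on which it acts primitively, such that for some d in D the subgroup generated by the members of D other than d commuting with d has central largest normal 2- and 3-subgroups, and suppose G with D is of type M(22). Then G has a non-inner automorphism s of order 2 whose fixed-point subgroup is isomorphic to the full automorphism group of Ω⁺(8, 2) (the commutator subgroup of the isometry group of the hyperbolic quadratic form in dimension 8 over the field with two elements), together with distinct commuting members a, b of D fixed by s such that: s, s composed with conjugation by a, and s composed with conjugation by a b represent the three classes (under the automorphism group) of non-inner automorphisms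 of order 2; the elements fixed by the automorphism s composed with conjugation by a are exactly those fixed by s and commuting with a, and they form a group isomorphic to the direct product of a group of order 2 and the symplectic group of dimension 6 over the field with two elements; and the elements fixed by the automorphism s composed with conjugation by a b form a group whose largest normal 2-subgroup is elementary abelian of order 64 with quotient isomorphic to the full isometry group of the elliptic quadratic form in dimension 6 over the field with two elements. -/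
theorem result {G : Type*} [Group G] [Finite G] {D : Set G} (hD : Cfsg.IsThreeTranspositionGroup D) (hprim : Cfsg.IsPrimitiveUnderConj D) (d₀ : G) (hd₀ : d₀ ∈ D) (h3 : Cfsg.pCore 3 ↥(Subgroup.closure {y : G | y ∈ D ∧ y ≠ d₀ ∧ Commute d₀ y}) ≤ Subgroup.center ↥(Subgroup.closure {y : G | y ∈ D ∧ y ≠ d₀ ∧ Commute d₀ y})) (h2 : Cfsg.pCore 2 ↥(Subgroup.closure {y : G | y ∈ D ∧ y ≠ d₀ ∧ Commute d₀ y}) ≤ Subgroup.center ↥(Subgroup.closure {y : G | y ∈ D ∧ y ≠ d₀ ∧ Commute d₀ y})) (h22 : Cfsg.IsOfTypeM22 G D) : ∃ (s : MulAut G) (a b : G) (Cs : Subgroup G), orderOf s = 2 ∧ s ∉ (MulAut.conj : G →* MulAut G).range ∧ (∀ g : G, g ∈ Cs ↔ s g = g) ∧ Nonempty (↥Cs ≃* MulAut (Cfsg.Omega (ZMod 2) (Cfsg.quadFormPlus 4 (ZMod 2)))) ∧ a ∈ D ∧ b ∈ D ∧ a ≠ b ∧ Commute a b ∧ s a = a ∧ s b = b ∧ (∀ t : MulAut G, orderOf t = 2 → t ∉ (MulAut.conj : G →* MulAut G).range → (IsConj t s ∨ IsConj t (s * MulAut.conj a) ∨ IsConj t (s * MulAut.conj (a * b)))) ∧ ¬ IsConj s (s * MulAut.conj a) ∧ ¬ IsConj s (s * MulAut.conj (a * b)) ∧ ¬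 IsConj (s * MulAut.conj a) (s * MulAut.conj (a * b)) ∧ (∀ g : G, (s * MulAut.conj a) g = g ↔ g ∈ Cs ⊓ Subgroup.centralizer ({a} : Set G)) ∧ Nonempty (↥(Cs ⊓ Subgroup.centralizer ({a} : Set G)) ≃* Multiplicative (ZMod 2) × Cfsg.PSp 3 (ZMod 2)) ∧ ∃ Csab O : Subgroup G, (∀ g : G, g ∈ Csab ↔ (s * MulAut.conj (a * b)) g = g) ∧ O = (Cfsg.pCore 2 ↥Csab).map Csab.subtype ∧ Cfsg.IsElementaryAbelian 2 O ∧ Nat.card O = 64 ∧ ∃ _ : (O.subgroupOf Csab).Normal, Nonempty (↥Csab ⧸ O.subgroupOf Csab ≃* Cfsg.isometryGroup (ZMod 2) (Cfsg.quadFormMinus 2 (ZMod 2) 1 1)) := by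
  obtain ⟨t, h⟩ := model22 hD hprim h22
  obtain ⟨s, a, b, h1, h2, ⟨i1⟩, h4, h5, h6, h7, h8, h9, h10, h11, h12, h13, h14, ⟨i2⟩, O, o1, o2, o3, φ, p1, p2⟩ :=
    out_main h (card_m22 hD hprim h22) (aut_mem_m22 hD hprim h22)
  obtain ⟨j1⟩ := nonempty_Om8
  obtain ⟨j2⟩ := nonempty_Sp6
  obtain ⟨j3⟩ := nonempty_O6'
  have hc := h.center
  have hp : IsPGroup 2 φ.ker := fun x => ⟨1, Subtype.ext (Subtype.ext (by
    have := o1.2 _ (mem_subgroupOf.1 (p2.le x.2))
    simpa using this))⟩
  have hn : (O.subgroupOf (fixA (s * MulAut.conj (a * b)))).Normal := p2 ▸ φ.normal_ker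
  refine ⟨s, a, b, fixA s, h1, h2, fun _ => mem_fixA hc, ⟨i1.trans (MulAut.congr j1)⟩, h4, h5, h6, h7, h8, h9,
    h10, h11, h12, h13, fun g => (mem_fixA hc).symm.trans (h14 ▸ Iff.rfl),
    ⟨(MulEquiv.subgroupCongr h14.symm).trans (i2.trans (MulEquiv.prodCongr (MulEquiv.refl _) j2))⟩,
    fixA (s * MulAut.conj (a * b)), O, fun _ => mem_fixA hc, ?_, o1, o2, hn,
    ⟨((QuotientGroup.quotientMulEquivOfEq p2.symm).trans
      (QuotientGroup.quotientKerEquivOfSurjective φ p1)).trans j3⟩⟩
  rw [pCore_eq_ker φ p1 hp pCore_O6, p2, map_subgroupOf_eq_of_le o3]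

end Cfsg.Agent.S5472
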