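import Cfsg.Statements.S5522
import Cfsg.Agent.Lib.Golay.M12
import Cfsg.Agent.Lib.Golay.Misc

set_option autoImplicit false
open Cfsg

namespace Cfsg.Agent.S5522
open CA.Gol
open scoped Pointwise


/-- The Mathieu group M₁₁, realised as the stabiliser of one point of the dodecad of squares inside the stabiliser M₁₂ of that dodecad in M₂₄, acts on the twelve coordinate positions outside the dodecad of squares (its 3-transitive action of degree 12); in this action every element of prime order fixes a point, i.e. the action is elusive. -/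
theorem result (g : Equiv.Perm Cfsg.GolayPt) (hg : g ∈ Cfsg.Spor.M11) (hord : (orderOf g).Prime) :
    ∃ x : Cfsg.GolayPt, x ∉ Cfsg.Spor.squareDodecad ∧ g x = x := by
  obtain ⟨⟨hM, hD⟩, h0⟩ := hg
  have hD' : g • Spor.squareDodecad = Spor.squareDodecad := hD
  have h0' : some 0 ∈ fixS g := Finset.mem_filter.2 ⟨Finset.mem_univ _, h0⟩
  have hne : (fixS g).card ≠ 0 := Finset.card_ne_zero_of_mem h0'
  have hd := squareDodecad_mem
  by_contra hcon
  push Not at hcon
  have hsub : fixS g ⊆ Spor.squareDodecad := fun x hx => by
    by_contra h; exact hcon x h (Finset.mem_filter.1 hx).2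
  have h1 : g ≠ 1 := by rintro rfl; simp at hord; exact Nat.not_prime_one hord
  have h5 : ¬ 5 ≤ (fixS g).card := fun h5 =>
    h1 (dodecad_sharp hd hM hD' hsub h5 fun p hp => (Finset.mem_filter.1 hp).2)
  by_cases h2 : orderOf g = 2
  · rcases fix_two hM h2 with h | h
    · rw [h.2] at h5; omega
    · exact hne h
  by_cases h3 : orderOf g = 3
  · rcases fix_three hM h3 with h | h
    · omega
    · exact hne h
  obtain ⟨x, hx, hgx⟩ := exists_fix_in hord (pow_orderOf_eq_one g) (s := Finset.univ \ Spor.squareDodecad)
    (by rw [smul_sdiff, smul_univ, hD']) (by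
      rw [Finset.card_sdiff_of_subset (Finset.subset_univ _), Finset.card_univ, card_golayPt, hd.2]
      intro h
      have h12 : orderOf g ∣ 2 * 2 * 3 := h
      rcases (hord.dvd_mul).1 h12 with h | h
      · rcases (hord.dvd_mul).1 h with h | h <;> exact h2 ((Nat.prime_dvd_prime_iff_eq hord Nat.prime_two).1 h)
      · exact h3 ((Nat.prime_dvd_prime_iff_eq hord Nat.prime_three).1 h))
  exact hcon x (Finset.mem_sdiff.1 hx).2 hgx

end Cfsg.Agent.S5522
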